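import Groth.Prelude.Def_GmPts
import Groth.Agent.GrpdLib.NormPrimes
import Mathlib.AlgebraicGeometry.Morphisms.Affine
import Mathlib.AlgebraicGeometry.Morphisms.FinitePresentation
import Mathlib.AlgebraicGeometry.Morphisms.Flat
import Mathlib.AlgebraicGeometry.Morphisms.Finite

/-!
# The norm of a finite locally free morphism on affine test schemes
-/

set_option autoImplicit false
set_option maxHeartbeats 400000
set_option synthInstance.maxHeartbeats 20000

universe u

open CategoryTheory Limits AlgebraicGeometry MonObj Groth.Agent.GrpdLib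

namespace Groth.Agent.GmNorm

variable {X X' : Scheme.{u}} (f : X' ⟶ X) [IsFinite f] [Flat f] [LocallyOfFinitePresentation f]

/-- The base change of `T` along `f`. -/
noncomputable abbrev bc (T : Over X) : Over X' := (Over.pullback f).obj T

/-- The projection `T ×_X X' ⟶ T`. -/
noncomputable abbrev proj (T : Over X) : (bc f T).left ⟶ T.left := pullback.fst T.hom f

theorem exists_frame_proj (T : Over X) [IsAffine T.left] :
    ∃ n, Nonempty (Frame (proj f T).appTop.hom n) := by
  have : IsAffine (bc f T).left := isAffine_of_isAffineHom (proj f T)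
  have h1 : (proj f T).appTop.hom.Finite := (proj f T).finite_appTop
  have h2 : (proj f T).appTop.hom.Flat := (proj f T).flat_appTop
  have h3 : (proj f T).appTop.hom.FinitePresentation :=
    (HasRingHomProperty.iff_of_isAffine (P := @LocallyOfFinitePresentation)).1 inferInstance
  algebraize [(proj f T).appTop.hom]
  have : Module.FinitePresentation Γ(T.left, ⊤) Γ((bc f T).left, ⊤) :=
    Module.FinitePresentation.of_finite_of_finitePresentation _ _
  have : Module.Projective Γ(T.left, ⊤) Γ((bc f T).left, ⊤) := Module.Flat.projective_of_finitePresentation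
  exact exists_frame (A := Γ(T.left, ⊤)) (B := Γ((bc f T).left, ⊤))

/-- The norm of functions. -/
noncomputable def normFn (T : Over X) [IsAffine T.left] (b : Γ((bc f T).left, ⊤)) : Γ(T.left, ⊤) :=
  (exists_frame_proj f T).choose_spec.some.norm b

theorem normFn_eq (T : Over X) [IsAffine T.left] {n : ℕ} (F : Frame (proj f T).appTop.hom n)
    (b : Γ((bc f T).left, ⊤)) : normFn f T b = F.norm b :=
  Frame.norm_eq _ F b

theorem normFn_one (T : Over X) [IsAffine T.left] : normFn f T 1 = 1 := Frame.norm_one _

theorem normFn_mul (T : Over X) [IsAffine T.left] (a b : Γ((bc f T).left, ⊤)) :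
    normFn f T (a * b) = normFn f T a * normFn f T b := Frame.norm_mul _ a b

theorem normFn_eq_algebraNorm (T : Over X) [IsAffine T.left]
    [Algebra Γ(T.left, ⊤) Γ((bc f T).left, ⊤)]
    [Module.Free Γ(T.left, ⊤) Γ((bc f T).left, ⊤)] [Module.Finite Γ(T.left, ⊤) Γ((bc f T).left, ⊤)]
    (h : ∀ a, algebraMap Γ(T.left, ⊤) Γ((bc f T).left, ⊤) a = (proj f T).appTop a)
    (b : Γ((bc f T).left, ⊤)) : normFn f T b = Algebra.norm Γ(T.left, ⊤) b := by
  have key : ∀ {α : Γ(T.left, ⊤) →+* Γ((bc f T).left, ⊤)} {n : ℕ} (F : Frame α n),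
      α = algebraMap _ _ → F.norm b = Algebra.norm Γ(T.left, ⊤) b := by
    rintro α n F rfl
    exact norm_eq_algebraNorm F b
  obtain ⟨n, ⟨F⟩⟩ := exists_frame_proj f T
  rw [normFn_eq f T F]
  exact key F (RingHom.ext fun a => (h a).symm)

theorem normFn_map {T T' : Over X} [IsAffine T.left] [IsAffine T'.left] (g : T ⟶ T')
    (b : Γ((bc f T').left, ⊤)) :
    normFn f T (((Over.pullback f).map g).left.appTop b) = g.left.appTop (normFn f T' b) := by
  set G := ((Over.pullback f).map g).left with hG
  have hG1 : G ≫ proj f T' = proj f T ≫ g.left := pullback.lift_fst _ _ _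
  have hG2 : G ≫ pullback.snd T'.hom f = pullback.snd T.hom f := pullback.lift_snd _ _ _
  have hp : IsPullback G (proj f T) (proj f T') g.left := by
    refine IsPullback.of_right ?_ hG1 (IsPullback.of_hasPullback T'.hom f).flip
    rw [hG2, Over.w g]
    exact (IsPullback.of_hasPullback T.hom f).flip
  have : IsAffine (bc f T').left := isAffine_of_isAffineHom (proj f T')
  have hpo := (isPushout_appTop_of_isPullback hp).flip
  obtain ⟨n, ⟨F⟩⟩ := exists_frame_proj f T'
  obtain ⟨F', H⟩ := F.exists_isMap g.left.appTop.hom G.appTop.hom (α' := (proj f T).appTop.hom) hpo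
  rw [normFn_eq f T F', normFn_eq f T' F]
  exact H.norm b

/-- The norm on units, transported to points of the multiplicative group. -/
noncomputable def normHom (T : Over X) [IsAffine T.left] :
    (bc f T ⟶ Red.Gm X') →* (T ⟶ Red.Gm X) :=
  ((GmPts.equiv T).symm.toMonoidHom).comp
    ((Units.map { toFun := normFn f T, map_one' := normFn_one f T, map_mul' := normFn_mul f T }).comp
      (GmPts.equiv (bc f T)).toMonoidHom)

theorem gmFn_normHom (T : Over X) [IsAffine T.left] (t : bc f T ⟶ Red.Gm X') :
    Red.gmFn (normHom f T t) = normFn f T (Red.gmFn t) :=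
  GmPts.gmFn_ptOfUnit _

theorem normHom_map {T T' : Over X} [IsAffine T.left] [IsAffine T'.left] (g : T ⟶ T')
    (t : bc f T' ⟶ Red.Gm X') :
    normHom f T ((Over.pullback f).map g ≫ t) = g ≫ normHom f T' t := by
  apply GmPts.gmFn_injective
  show Red.gmFn (normHom f T ((Over.pullback f).map g ≫ t)) = Red.gmFn (g ≫ normHom f T' t)
  rw [gmFn_normHom, GmPts.gmFn_comp, GmPts.gmFn_comp, gmFn_normHom, normFn_map]

end Groth.Agent.GmNorm
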