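import Groth.Prelude.Def_CGrpSh3
import Groth.Agent.GmNorm.Affine
import Mathlib.AlgebraicGeometry.Sites.Fpqc
import Mathlib.CategoryTheory.Sites.DenseSubsite.Basic
import Mathlib.RingTheory.LocalRing.Module
import Mathlib.RingTheory.LocalProperties.Submodule

/-!
# The norm map of a finite locally free morphism on the big fppf site
-/

set_option autoImplicit false

universe u

open CategoryTheory Limits AlgebraicGeometry MonObj Opposite

namespace Groth.Agent.GmNorm

variable {X X' : Scheme.{u}} (f : X' ⟶ X)

/-- The affine test schemes. -/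
abbrev affObj (X : Scheme.{u}) : ObjectProperty (Over X) := fun T => IsAffine T.left

instance (T : (affObj X).FullSubcategory) : IsAffine T.obj.left := T.property

instance isCoverDense_affObj :
    (affObj X).ι.IsCoverDense (QuotSh.J Scheme.fppfPrecoverage X) := by
  refine ⟨fun T => ?_⟩
  show Sieve.overEquiv T _ ∈ Scheme.fppfPrecoverage.toGrothendieck T.left
  refine GrothendieckTopology.superset_covering _ ?_
    (Precoverage.toGrothendieck_mono Scheme.zariskiPrecoverage_le_fppfPrecoverage _
      T.left.affineCover.mem_grothendieckTopology)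
  rw [Sieve.generate_le_iff]
  rintro W g ⟨i⟩
  refine (Sieve.overEquiv_iff _ _).2 ?_
  exact ⟨{ obj := ⟨Over.mk (T.left.affineCover.f i ≫ T.hom), inferInstanceAs (IsAffine (T.left.affineCover.X i))⟩
           lift := 𝟙 _
           map := Over.homMk (T.left.affineCover.f i)
           fac := by simp }⟩

variable [IsFinite f] [Flat f] [LocallyOfFinitePresentation f]

/-- The norm on sections over an affine test scheme. -/
noncomputable def normApp (T : Over X) [IsAffine T.left] :
    (CGrpSh3.pushGm Scheme.fppfPrecoverage f).obj.obj (op T) ⟶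
      (CGrpSh2.Gm Scheme.fppfPrecoverage X).obj.obj (op T) :=
  AddCommGrpCat.ofHom
    { toFun := fun x => ULift.up (Additive.ofMul (normHom f T x.down.toMul))
      map_zero' := ULift.ext _ _ (congrArg Additive.ofMul (map_one (normHom f T)))
      map_add' := fun x y =>
        ULift.ext _ _ (congrArg Additive.ofMul (map_mul (normHom f T) x.down.toMul y.down.toMul)) }

/-- The norm on affine test schemes, as a natural transformation. -/
noncomputable def normAff :
    (affObj X).ι.op ⋙ (CGrpSh3.pushGm Scheme.fppfPrecoverage f).obj ⟶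
      (affObj X).ι.op ⋙ (CGrpSh2.Gm Scheme.fppfPrecoverage X).obj where
  app T := normApp f T.unop.obj
  naturality T T' g := AddCommGrpCat.ext fun x => ULift.ext _ _
    (congrArg Additive.ofMul (normHom_map f g.unop.hom x.down.toMul))

/-- The norm map. -/
noncomputable def normMap :
    CGrpSh3.pushGm Scheme.fppfPrecoverage f ⟶ CGrpSh2.Gm Scheme.fppfPrecoverage X :=
  ⟨Functor.IsCoverDense.sheafHom (normAff f)⟩

theorem normPt_normMap (T : Over X) [h : IsAffine T.left] (t : bc f T ⟶ Red.Gm X') :
    CGrpSh3.normPt Scheme.fppfPrecoverage f (normMap f) T t = normHom f T t := by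
  have := NatTrans.congr_app (Functor.IsCoverDense.sheafHom_restrict_eq (normAff f)) (op ⟨T, h⟩)
  exact congrArg (fun z => (z.down).toMul)
    (ConcreteCategory.congr_hom this (ULift.up (Additive.ofMul t)))

theorem isNormMap_normMap : CGrpSh3.IsNormMap Scheme.fppfPrecoverage f (normMap f) := by
  intro T _ _ _ _ h t
  rw [normPt_normMap, gmFn_normHom]
  exact normFn_eq_algebraNorm f T h _

theorem normPt_comp (N : CGrpSh3.pushGm Scheme.fppfPrecoverage f ⟶ CGrpSh2.Gm Scheme.fppfPrecoverage X)
    {T T' : Over X} (g : T ⟶ T') (t : bc f T' ⟶ Red.Gm X') :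
    CGrpSh3.normPt Scheme.fppfPrecoverage f N T ((Over.pullback f).map g ≫ t) =
      g ≫ CGrpSh3.normPt Scheme.fppfPrecoverage f N T' t :=
  congrArg (fun z => (z.down).toMul)
    (ConcreteCategory.congr_hom (N.hom.naturality g.op) (ULift.up (Additive.ofMul t)))

/-- A norm map is given by `normFn` on every affine test scheme. -/
theorem gmFn_normPt_eq (N : CGrpSh3.pushGm Scheme.fppfPrecoverage f ⟶ CGrpSh2.Gm Scheme.fppfPrecoverage X)
    (hN : CGrpSh3.IsNormMap Scheme.fppfPrecoverage f N) (T : Over X) [IsAffine T.left]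
    (t : bc f T ⟶ Red.Gm X') :
    Red.gmFn (CGrpSh3.normPt Scheme.fppfPrecoverage f N T t) = normFn f T (Red.gmFn t) := by
  set R := Γ(T.left, ⊤)
  refine Module.eq_of_localization_maximal
    (fun P _ => Localization.AtPrime P)
    (fun P _ => Algebra.linearMap R (Localization.AtPrime P)) _ _ fun m _ => ?_
  let L : CommRingCat.{u} := CommRingCat.of (Localization.AtPrime m)
  let φ : Spec L ⟶ T.left :=
    Spec.map (CommRingCat.ofHom (algebraMap R (Localization.AtPrime m))) ≫ T.left.isoSpec.inv
  let Tp : Over X := Over.mk (φ ≫ T.hom)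
  let g : Tp ⟶ T := Over.homMk φ rfl
  have : IsAffine Tp.left := inferInstanceAs (IsAffine (Spec L))
  have : IsLocalRing Γ(Tp.left, ⊤) :=
    (Scheme.ΓSpecIso L).commRingCatIsoToRingEquiv.symm.isLocalRing
  have : IsAffine (bc f Tp).left := isAffine_of_isAffineHom (proj f Tp)
  have h1 : (proj f Tp).appTop.hom.Finite := (proj f Tp).finite_appTop
  have h2 : (proj f Tp).appTop.hom.Flat := (proj f Tp).flat_appTop
  algebraize [(proj f Tp).appTop.hom]
  have : Module.Free Γ(Tp.left, ⊤) Γ((bc f Tp).left, ⊤) := Module.free_of_flat_of_isLocalRing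
  have hloc := hN Tp (fun a => rfl) ((Over.pullback f).map g ≫ t)
  rw [normPt_comp, GmPts.gmFn_comp, GmPts.gmFn_comp] at hloc
  have h3 := normFn_eq_algebraNorm f Tp (fun a => rfl) (((Over.pullback f).map g).left.appTop (Red.gmFn t))
  rw [normFn_map] at h3
  have h4 : ∀ r : R, algebraMap R (Localization.AtPrime m) r =
      (Scheme.ΓSpecIso L).hom (φ.appTop r) := by
    intro r
    have e : φ.appTop ≫ (Scheme.ΓSpecIso L).hom =
        CommRingCat.ofHom (algebraMap R (Localization.AtPrime m)) := by
      rw [Scheme.Hom.comp_appTop, Category.assoc, Scheme.ΓSpecIso_naturality, ← Category.assoc,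
        show T.left.isoSpec.inv.appTop ≫ (Scheme.ΓSpecIso (CommRingCat.of R)).hom = 𝟙 _ by
          rw [show (Scheme.ΓSpecIso (CommRingCat.of R)).hom = T.left.isoSpec.hom.appTop from
              T.left.toSpecΓ_appTop.symm, ← Scheme.Hom.comp_appTop, Iso.hom_inv_id]
          rfl, Category.id_comp]
    exact (ConcreteCategory.congr_hom e r).symm
  show algebraMap R (Localization.AtPrime m) _ = algebraMap R (Localization.AtPrime m) _
  rw [h4, h4]
  exact congrArg (Scheme.ΓSpecIso L).hom (hloc.trans h3.symm)

/-- A norm map is unique. -/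
theorem eq_normMap (N : CGrpSh3.pushGm Scheme.fppfPrecoverage f ⟶ CGrpSh2.Gm Scheme.fppfPrecoverage X)
    (hN : CGrpSh3.IsNormMap Scheme.fppfPrecoverage f N) : N = normMap f := by
  refine Sheaf.hom_ext ?_
  refine ((Functor.IsCoverDense.sheafHom_eq (G := (affObj X).ι) N.hom).symm.trans ?_)
  refine congrArg Functor.IsCoverDense.sheafHom (NatTrans.ext (funext fun T => AddCommGrpCat.ext fun x => ?_))
  refine ULift.ext _ _ (congrArg Additive.ofMul ?_)
  refine GmPts.gmFn_injective ?_
  exact (gmFn_normPt_eq f N hN T.unop.obj x.down.toMul).trans (gmFn_normHom f T.unop.obj x.down.toMul).symm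

end Groth.Agent.GmNorm
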